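import Groth.Agent.CodimOneExt.Extend

/-!
# Extensions of a cover of `U` over a varying open

`Ext U h V` is a finite étale cover of `V` restricting to `h` on `U ∩ V`. When `U` is dense with
regular complement such extensions are unique up to unique isomorphism.
-/

set_option autoImplicit false
set_option backward.isDefEq.respectTransparency false

universe u

open CategoryTheory CategoryTheory.Limits AlgebraicGeometry TopologicalSpace

namespace Groth.Agent.CodimOneExt

variable {X : Scheme.{u}}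

theorem isPullback_homOfLE {V W : X.Opens} (hVW : V ≤ W) :
    IsPullback (X.homOfLE hVW) (𝟙 V.toScheme) W.ι V.ι :=
  IsPullback.of_vert_isIso_mono (fst := X.homOfLE hVW) (snd := 𝟙 V.toScheme) (f := W.ι) (g := V.ι)
    ⟨by simp⟩

variable (U : X.Opens) {Y : Scheme.{u}} (h : Y ⟶ U.toScheme)

/-- A finite étale cover of `V` restricting to `h` over `U ∩ V`. -/
structure Ext (V : X.Opens) where
  G : Scheme.{u}
  γ : G ⟶ V.toScheme
  prop : FEt.prop γ
  q : pullback (h ≫ U.ι) V.ι ⟶ G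
  hq : q ≫ γ = pullback.snd (h ≫ U.ι) V.ι
  sq : IsPullback q (pullback.fst (h ≫ U.ι) V.ι ≫ h) (γ ≫ V.ι) U.ι

variable {U h}

/-- The transition map between the preimages in `Y`. -/
noncomputable def tr {V W : X.Opens} (hVW : V ≤ W) : pullback (h ≫ U.ι) V.ι ⟶ pullback (h ≫ U.ι) W.ι :=
  pullback.map _ _ _ _ (𝟙 _) (X.homOfLE hVW) (𝟙 _) (by simp) (by simp)

theorem tr_fst {V W : X.Opens} (hVW : V ≤ W) :
    (tr hVW : pullback (h ≫ U.ι) V.ι ⟶ _) ≫ pullback.fst _ _ = pullback.fst _ _ := by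
  simp [tr]

theorem tr_snd {V W : X.Opens} (hVW : V ≤ W) :
    (tr hVW : pullback (h ≫ U.ι) V.ι ⟶ _) ≫ pullback.snd _ _ = pullback.snd _ _ ≫ X.homOfLE hVW := by
  simp [tr]

theorem tr_self (V : X.Opens) (hV : V ≤ V) : (tr hV : pullback (h ≫ U.ι) V.ι ⟶ _) = 𝟙 _ := by
  apply pullback.hom_ext <;> simp [tr]

theorem tr_tr {V W Z : X.Opens} (hVW : V ≤ W) (hWZ : W ≤ Z) :
    (tr hVW : pullback (h ≫ U.ι) V.ι ⟶ _) ≫ tr hWZ = tr (hVW.trans hWZ) := by
  apply pullback.hom_ext <;> simp [tr]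

/-- Building an extension over `V` from a cover of a larger open. -/
noncomputable def Ext.ofLE {V W : X.Opens} (hVW : V ≤ W) {A : Scheme.{u}} (eA : A ⟶ W.toScheme)
    (hA : FEt.prop eA) {T : Scheme.{u}} (tq : T ⟶ A) (th : T ⟶ U.toScheme)
    (sqA : IsPullback tq th (eA ≫ W.ι) U.ι) (t : pullback (h ≫ U.ι) V.ι ⟶ T)
    (hth : t ≫ th = pullback.fst _ _ ≫ h)
    (ht : IsPullback t (pullback.snd (h ≫ U.ι) V.ι) (tq ≫ eA ≫ W.ι) V.ι) : Ext U h V where
  G := pullback eA (X.homOfLE hVW)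
  γ := pullback.snd _ _
  prop := MorphismProperty.pullback_snd _ _ hA
  q := pullback.lift (t ≫ tq) (pullback.snd _ _) (by
    rw [← cancel_mono W.ι]
    simp only [Category.assoc, Scheme.homOfLE_ι]
    exact ht.w)
  hq := pullback.lift_snd _ _ _
  sq := by
    have bot : IsPullback (pullback.fst eA (X.homOfLE hVW)) (pullback.snd eA (X.homOfLE hVW)) (eA ≫ W.ι) V.ι := by
      simpa using (IsPullback.of_hasPullback eA (X.homOfLE hVW)).paste_vert (isPullback_homOfLE hVW)
    set q := pullback.lift (f := eA) (g := X.homOfLE hVW) (t ≫ tq) (pullback.snd (h ≫ U.ι) V.ι) (by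
      rw [← cancel_mono W.ι]
      simp only [Category.assoc, Scheme.homOfLE_ι]
      exact ht.w) with hq
    have top : IsPullback t q tq (pullback.fst eA (X.homOfLE hVW)) := by
      refine IsPullback.of_bot ?_ (by simp [q]) bot
      rw [pullback.lift_snd]
      exact ht
    have hcond : pullback.fst eA (X.homOfLE hVW) ≫ eA ≫ W.ι = pullback.snd eA (X.homOfLE hVW) ≫ V.ι := by
      simp [pullback.condition_assoc]
    have := top.flip.paste_vert sqA
    rwa [hcond, hth] at this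

/-- The restriction of an extension to a smaller open. -/
noncomputable def Ext.res {V W : X.Opens} (D : Ext U h W) (hVW : V ≤ W) : Ext U h V :=
  Ext.ofLE hVW D.γ D.prop D.q (pullback.fst (h ≫ U.ι) W.ι ≫ h) D.sq (tr hVW)
    (by rw [← Category.assoc, tr_fst]) (by
      rw [← Category.assoc D.q, D.hq]
      have h₁ : IsPullback (tr hVW) (pullback.snd (h ≫ U.ι) V.ι) (pullback.snd (h ≫ U.ι) W.ι) (X.homOfLE hVW) := by
        refine IsPullback.of_right (h₁₂ := pullback.fst (h ≫ U.ι) W.ι) (h₂₂ := W.ι) (v₁₃ := h ≫ U.ι) ?_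
          (tr_snd hVW) (IsPullback.of_hasPullback (h ≫ U.ι) W.ι)
        rw [tr_fst, Scheme.homOfLE_ι]
        exact IsPullback.of_hasPullback _ _
      simpa using h₁.paste_vert (isPullback_homOfLE hVW))

theorem Ext.res_q_fst {V W : X.Opens} (D : Ext U h W) (hVW : V ≤ W) :
    (D.res hVW).q ≫ pullback.fst D.γ (X.homOfLE hVW) = tr hVW ≫ D.q :=
  pullback.lift_fst _ _ _

theorem exists_ext [IsLocallyNoetherian X] (hU : Dense (U : Set X)) (hh : FEt.prop h)
    (hreg : ∀ x : X, x ∉ U → IsRegularLocalRing (X.presheaf.stalk x))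
    (hunr : ∀ ξ : X, ξ ∉ U → ringKrullDim (X.presheaf.stalk ξ) = 1 →
      ∃ (F : FEt.Cat (Spec (X.presheaf.stalk ξ)))
        (η : pullback F.hom (pullback.snd U.ι (X.fromSpecStalk ξ)) ≅ pullback h (pullback.fst U.ι (X.fromSpecStalk ξ))),
        η.hom ≫ pullback.snd _ _ = pullback.snd _ _)
    (V : X.Opens) (hV : IsAffineOpen V) : Nonempty (Ext U h V) := by
  obtain ⟨O, hle, hVO, A, eA, q, hA, hq⟩ := exists_extension_affine U hU h hh hreg hunr V hV
  have sqA : IsPullback q h (eA ≫ O.ι) U.ι := by simpa using hq.paste_vert (isPullback_homOfLE hle)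
  refine ⟨Ext.ofLE hVO eA hA q h sqA (pullback.fst _ _) rfl ?_⟩
  rw [sqA.w]
  exact IsPullback.of_hasPullback _ _

/-- Morphisms between two covers agreeing over the dense open exist uniquely. -/
theorem Ext.existsUnique_hom [IsLocallyNoetherian X] (hU : Dense (U : Set X))
    (hreg : ∀ x : X, x ∉ U → IsRegularLocalRing (X.presheaf.stalk x))
    {V : X.Opens} (D : Ext U h V) {G' : Scheme.{u}} (γ' : G' ⟶ V.toScheme) (hγ' : FEt.prop γ')
    (q' : pullback (h ≫ U.ι) V.ι ⟶ G') (hq' : q' ≫ γ' = pullback.snd (h ≫ U.ι) V.ι) :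
    ∃! e : D.G ⟶ G', e ≫ γ' = D.γ ∧ D.q ≫ e = q' := by
  set U' := V.ι ⁻¹ᵁ U
  have hU' : Dense (U' : Set V.toScheme) := hU.preimage V.ι.isOpenEmbedding.isOpenMap
  have hreg' : ∀ x : V.toScheme, x ∉ U' → IsRegularLocalRing (V.toScheme.presheaf.stalk x) := fun x hx => by
    haveI := hreg (V.ι x) hx
    exact IsRegularLocalRing.of_ringEquiv (asIso (V.ι.stalkMap x)).commRingCatIsoToRingEquiv
  obtain ⟨hfull, hfaith⟩ := full_faithful U' hU' hreg'
  have hsub : Set.range (pullback.snd (h ≫ U.ι) V.ι) ⊆ Set.range U'.ι := by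
    rw [Scheme.Opens.range_ι]
    rintro _ ⟨z, rfl⟩
    show V.ι (pullback.snd (h ≫ U.ι) V.ι z) ∈ U
    rw [← Scheme.Hom.comp_apply, ← pullback.condition, Scheme.Hom.comp_apply, Scheme.Hom.comp_apply]
    exact (h (pullback.fst (h ≫ U.ι) V.ι z)).2
  let l : pullback (h ≫ U.ι) V.ι ⟶ U'.toScheme := IsOpenImmersion.lift U'.ι (pullback.snd _ _) hsub
  have hl : l ≫ U'.ι = pullback.snd (h ≫ U.ι) V.ι := IsOpenImmersion.lift_fac _ _ _
  haveI : IsOpenImmersion D.q := MorphismProperty.of_isPullback D.sq.flip inferInstance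
  have hpb : IsPullback D.q l D.γ U'.ι := by
    refine (IsOpenImmersion.isPullback l D.q U'.ι D.γ (D.hq.trans hl.symm) ?_).flip
    ext g
    show D.γ g ∈ U'.ι.opensRange ↔ g ∈ Set.range D.q
    rw [Scheme.Opens.opensRange_ι]
    constructor
    · intro hg
      obtain ⟨z, hz, -⟩ := Scheme.exists_preimage_of_isPullback D.sq g ⟨V.ι (D.γ g), hg⟩ rfl
      exact ⟨z, hz⟩
    · rintro ⟨z, rfl⟩
      rw [← Scheme.Hom.comp_apply, D.hq, ← hl, Scheme.Hom.comp_apply]
      exact (l z).2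
  let i := (IsPullback.of_hasPullback D.γ U'.ι).isoIsPullback _ _ hpb
  have hi : i.hom ≫ D.q = pullback.fst D.γ U'.ι := IsPullback.isoIsPullback_hom_fst _ _ _ _
  let A : FEt.Cat V.toScheme := MorphismProperty.Over.mk ⊤ D.γ D.prop
  let B : FEt.Cat V.toScheme := MorphismProperty.Over.mk ⊤ γ' hγ'
  let φ : (FEt.restrict U'.ι).obj A ⟶ (FEt.restrict U'.ι).obj B :=
    MorphismProperty.Over.homMk (pullback.lift (i.hom ≫ q') (pullback.snd D.γ U'.ι) (by
      show (i.hom ≫ q') ≫ γ' = pullback.snd D.γ U'.ι ≫ U'.ι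
      rw [Category.assoc, hq', ← D.hq, reassoc_of% hi, pullback.condition]))
      (pullback.lift_snd _ _ _)
  obtain ⟨e, he⟩ := hfull.map_surjective φ
  have hres : ∀ f : A ⟶ B, ((FEt.restrict U'.ι).map f).left ≫ pullback.fst γ' U'.ι = i.hom ≫ D.q ≫ f.left := by
    intro f
    rw [reassoc_of% hi]
    show ((FEt.restrict U'.ι).map f).left ≫ pullback.fst γ' U'.ι = pullback.fst D.γ U'.ι ≫ f.left
    exact pullback.lift_fst _ _ _
  refine ⟨e.left, ⟨MorphismProperty.Over.w e, ?_⟩, fun e' he' => ?_⟩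
  · have h1 := hres e
    rw [he] at h1
    rw [← cancel_epi i.hom, ← h1]
    exact pullback.lift_fst _ _ _
  · let f : A ⟶ B := MorphismProperty.Over.homMk e' he'.1
    suffices f = e from congrArg (·.left) this
    refine (FEt.restrict U'.ι).map_injective ?_
    rw [he]
    ext
    apply pullback.hom_ext
    · refine (hres f).trans ?_
      show i.hom ≫ D.q ≫ e' = φ.left ≫ pullback.fst γ' U'.ι
      rw [he'.2]
      exact (pullback.lift_fst _ _ _).symm
    · exact (MorphismProperty.Over.w ((FEt.restrict U'.ι).map f)).trans (MorphismProperty.Over.w φ).symm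

/-- The transition map of two extensions along an inclusion of opens. -/
theorem Ext.existsUnique_trans [IsLocallyNoetherian X] (hU : Dense (U : Set X))
    (hreg : ∀ x : X, x ∉ U → IsRegularLocalRing (X.presheaf.stalk x))
    {V W : X.Opens} (D : Ext U h V) (D' : Ext U h W) (hVW : V ≤ W) :
    ∃! m : D.G ⟶ D'.G, m ≫ D'.γ = D.γ ≫ X.homOfLE hVW ∧ D.q ≫ m = tr hVW ≫ D'.q := by
  obtain ⟨e, ⟨he₁, he₂⟩, heu⟩ := D.existsUnique_hom hU hreg (D'.res hVW).γ (D'.res hVW).prop (D'.res hVW).q (D'.res hVW).hq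
  refine ⟨e ≫ pullback.fst D'.γ (X.homOfLE hVW), ⟨?_, ?_⟩, fun m hm => ?_⟩
  · rw [Category.assoc, pullback.condition, ← Category.assoc]
    exact congrArg (· ≫ X.homOfLE hVW) he₁
  · rw [← Category.assoc, he₂, Ext.res_q_fst]
  · have h1 := heu (pullback.lift m D.γ hm.1) ⟨pullback.lift_snd _ _ _, by
      apply pullback.hom_ext
      · rw [Ext.res_q_fst, Category.assoc]
        erw [pullback.lift_fst]
        exact hm.2
      · rw [Category.assoc]
        erw [pullback.lift_snd]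
        exact D.hq.trans (D'.res hVW).hq.symm⟩
    rw [← h1]
    exact (pullback.lift_fst _ _ _).symm

theorem Ext.isPullback_trans [IsLocallyNoetherian X] (hU : Dense (U : Set X))
    (hreg : ∀ x : X, x ∉ U → IsRegularLocalRing (X.presheaf.stalk x))
    {V W : X.Opens} (D : Ext U h V) (D' : Ext U h W) (hVW : V ≤ W) (m : D.G ⟶ D'.G)
    (hm₁ : m ≫ D'.γ = D.γ ≫ X.homOfLE hVW) (hm₂ : D.q ≫ m = tr hVW ≫ D'.q) :
    IsPullback m D.γ D'.γ (X.homOfLE hVW) := by
  obtain ⟨f, ⟨hf₁, hf₂⟩, -⟩ := (D'.res hVW).existsUnique_hom hU hreg D.γ D.prop D.q D.hq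
  let c : D.G ⟶ (D'.res hVW).G := pullback.lift m D.γ hm₁
  have hc₁ : c ≫ (D'.res hVW).γ = D.γ := pullback.lift_snd _ _ _
  have hc₂ : D.q ≫ c = (D'.res hVW).q := by
    apply pullback.hom_ext
    · rw [Ext.res_q_fst, Category.assoc]
      erw [pullback.lift_fst]
      exact hm₂
    · rw [Category.assoc]
      erw [pullback.lift_snd]
      exact D.hq.trans (D'.res hVW).hq.symm
  have h1 : c ≫ f = 𝟙 D.G := (D.existsUnique_hom hU hreg D.γ D.prop D.q D.hq).unique
    ⟨by rw [Category.assoc, hf₁, hc₁], by rw [reassoc_of% hc₂, hf₂]⟩ ⟨Category.id_comp _, Category.comp_id _⟩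
  have h2 : f ≫ c = 𝟙 (D'.res hVW).G :=
    ((D'.res hVW).existsUnique_hom hU hreg (D'.res hVW).γ (D'.res hVW).prop (D'.res hVW).q (D'.res hVW).hq).unique
      ⟨by rw [Category.assoc, hc₁, hf₁], by rw [reassoc_of% hf₂, hc₂]⟩ ⟨Category.id_comp _, Category.comp_id _⟩
  exact IsPullback.of_iso_pullback ⟨hm₁⟩ ⟨c, f, h1, h2⟩ (pullback.lift_fst _ _ _) (pullback.lift_snd _ _ _)

end Groth.Agent.CodimOneExt
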