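import Mathlib
import Groth.Prelude.Def_FEt
import Groth.Agent.S7283
import Groth.Agent.Hensel.HenselizationMore
import Groth.Agent.RegLoc.Order

/-! Restriction to a dense open with regular complement is fully faithful. -/

set_option autoImplicit false
set_option linter.all false
set_option backward.isDefEq.respectTransparency false
universe u

open CategoryTheory CategoryTheory.Limits AlgebraicGeometry TopologicalSpace

namespace Groth.Agent.CodimOneExt

variable {X : Scheme.{u}}

/-- A dense open of a locally Noetherian scheme contains the maximal points. -/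
theorem mem_of_no_generization [IsLocallyNoetherian X] (U : X.Opens) (hU : Dense (U : Set X)) (y : X)
    (hy : ∀ z : X, z ⤳ y → z = y) : y ∈ U := by
  classical
  obtain ⟨V, hV, hyV, -⟩ := exists_isAffineOpen_mem_and_subset (U := (⊤ : X.Opens)) (x := y) trivial
  haveI : IsNoetherianRing Γ(X, V) := IsLocallyNoetherian.component_noetherian ⟨V, hV⟩
  let p := hV.primeIdealOf ⟨y, hyV⟩
  have hp : hV.fromSpec p = y := hV.fromSpec_primeIdealOf ⟨y, hyV⟩
  have hmin : p.asIdeal ∈ minimalPrimes Γ(X, V) := by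
    refine ⟨⟨p.2, bot_le⟩, fun I hI hle => ?_⟩
    have hspec : (⟨I, hI.1⟩ : PrimeSpectrum Γ(X, V)) ⤳ p := (PrimeSpectrum.le_iff_specializes _ _).1 hle
    have := hy _ (hp ▸ hspec.map hV.fromSpec.continuous)
    exact (congrArg PrimeSpectrum.asIdeal (hV.fromSpec.isOpenEmbedding.injective (this.trans hp.symm))).ge
  let S : Finset (Ideal Γ(X, V)) :=
    (minimalPrimes.finite_of_isNoetherianRing Γ(X, V)).toFinset.erase p.asIdeal
  have hne : ∀ I ∈ S, ∃ f ∈ I, f ∉ p.asIdeal := by
    intro I hI
    rw [Finset.mem_erase, Set.Finite.mem_toFinset] at hI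
    exact Set.not_subset.1 fun h => hI.1 (le_antisymm h (hmin.2 hI.2.1 h))
  choose f hfI hfp using hne
  let F := ∏ I ∈ S.attach, f I.1 I.2
  have hF : F ∉ p.asIdeal := fun h => by
    obtain ⟨I, -, hI⟩ := (p.2.prod_mem_iff).1 h
    exact hfp _ _ hI
  have hyD : y ∈ X.basicOpen F := by
    have h : p ∈ hV.fromSpec ⁻¹ᵁ X.basicOpen F := by rw [hV.fromSpec_preimage_basicOpen]; exact hF
    exact hp ▸ h
  obtain ⟨z, hzD, hzU⟩ := hU.inter_open_nonempty _ (X.basicOpen F).2 ⟨y, hyD⟩
  have hzV : z ∈ V := X.basicOpen_le F hzD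
  let q := hV.primeIdealOf ⟨z, hzV⟩
  have hq : hV.fromSpec q = z := hV.fromSpec_primeIdealOf ⟨z, hzV⟩
  have hqF : F ∉ q.asIdeal := by
    have h : q ∈ hV.fromSpec ⁻¹ᵁ X.basicOpen F := show hV.fromSpec q ∈ X.basicOpen F from hq ▸ hzD
    rwa [hV.fromSpec_preimage_basicOpen] at h
  haveI := q.2
  obtain ⟨I, hI, hIq⟩ := Ideal.exists_minimalPrimes_le (bot_le : (⊥ : Ideal Γ(X, V)) ≤ q.asIdeal)
  have hIp : I = p.asIdeal := by
    by_contra hne
    have hIS : I ∈ S := Finset.mem_erase.2 ⟨hne, (Set.Finite.mem_toFinset _).2 hI⟩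
    exact hqF (hIq (Ideal.prod_mem (f := fun J : {J // J ∈ S} => f J.1 J.2) I (Finset.mem_attach S ⟨I, hIS⟩) (hfI I hIS)))
  have hspec : p ⤳ q := (PrimeSpectrum.le_iff_specializes p q).1 (show p.asIdeal ≤ q.asIdeal from hIp.symm.trans_le hIq)
  exact (hp ▸ hq ▸ hspec.map hV.fromSpec.continuous).mem_open U.2 hzU

/-- A point outside a dense open is not maximal. -/
theorem not_isField_stalk [IsLocallyNoetherian X] (U : X.Opens) (hU : Dense (U : Set X)) (x : X) (hx : x ∉ U) :
    ¬ IsField (X.presheaf.stalk x) := fun h => hx <| mem_of_no_generization U hU x fun z hz => by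
  obtain ⟨w, rfl⟩ := (Set.ext_iff.1 Scheme.range_fromSpecStalk z).2 hz
  have : w = IsLocalRing.closedPoint (X.presheaf.stalk x) := by
    letI := h.toField
    exact Subsingleton.elim (α := PrimeSpectrum (X.presheaf.stalk x)) _ _
  rw [this, Scheme.fromSpecStalk_closedPoint]

theorem connectedSpace_punctured (R : Type u) [CommRing R] [IsLocalRing R] [IsDomain R] (hR : ¬ IsField R) :
    ConnectedSpace (FEt.puncturedSpec R : Scheme.{u}) := by
  have hne : (SetLike.coe (FEt.puncturedSpec R) : Set (PrimeSpectrum R)).Nonempty := by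
    refine ⟨(⟨⊥, Ideal.isPrime_bot⟩ : PrimeSpectrum R), fun h => hR ?_⟩
    exact IsLocalRing.isField_iff_maximalIdeal_eq.2 (congrArg PrimeSpectrum.asIdeal h).symm
  have hirr : IsPreirreducible (SetLike.coe (FEt.puncturedSpec R) : Set (PrimeSpectrum R)) := by
    haveI : PreirreducibleSpace (PrimeSpectrum R) := inferInstance
    exact PreirreducibleSpace.isPreirreducible_univ.open_subset (U := (SetLike.coe (FEt.puncturedSpec R) : Set (PrimeSpectrum R))) (FEt.puncturedSpec R).2 (Set.subset_univ _)
  exact isConnected_iff_connectedSpace.1 ⟨hne, hirr.isPreconnected⟩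

theorem full_faithful [IsLocallyNoetherian X] (U : X.Opens) (hU : Dense (U : Set X))
    (hreg : ∀ x : X, x ∉ U → IsRegularLocalRing (X.presheaf.stalk x)) :
    (FEt.restrict U.ι).Full ∧ (FEt.restrict U.ι).Faithful := by
  refine Groth.Agent.S7283.result U hU (fun V hV => ?_) fun x hx R _ _ _ _ _ => ?_
  · haveI : CompactSpace V.toScheme := isCompact_iff_compactSpace.1 hV
    haveI : IsNoetherian V.toScheme := {}
    exact NoetherianSpace.finite_irreducibleComponents (α := V.toScheme)
  haveI := hreg x hx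
  haveI : IsRegularLocalRing R :=
    (Groth.Agent.Hensel.strictHenselization_isRegularLocalRing_iff (R := X.presheaf.stalk x) (S := R)).2 inferInstance
  haveI := RegLoc.isDomain R
  haveI := RegLoc.isDomain (X.presheaf.stalk x)
  refine connectedSpace_punctured R fun hR => not_isField_stalk U hU x hx ?_
  rw [IsLocalRing.isField_iff_maximalIdeal_eq, eq_bot_iff]
  intro a ha
  haveI := Groth.Agent.Hensel.strictHenselization_faithfullyFlat (X.presheaf.stalk x) R
  have h := map_nonunit (algebraMap (X.presheaf.stalk x) R) a ha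
  rw [IsLocalRing.isField_iff_maximalIdeal_eq.1 hR, Ideal.mem_bot] at h
  exact (map_eq_zero_iff _ (FaithfulSMul.algebraMap_injective (X.presheaf.stalk x) R)).1 h

end Groth.Agent.CodimOneExt
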