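import Groth.Agent.CodimOneExt.Nhd
import Groth.Agent.CodimOneExt.Faithful
import Groth.Agent.PureExtend.Main
import Groth.Agent.S0247
import Groth.Agent.SerreReg.Descent

/-!
# Extending finite étale covers of a dense open across a regular complement
-/

set_option autoImplicit false
set_option backward.isDefEq.respectTransparency false

universe u

open CategoryTheory CategoryTheory.Limits AlgebraicGeometry TopologicalSpace

namespace Groth.Agent.CodimOneExt

variable {X : Scheme.{u}}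

/-- One step of the extension, given an extension over the local ring. -/
theorem exists_bigger [IsLocallyNoetherian X] (O : X.Opens) {A : Scheme.{u}} (eA : A ⟶ O.toScheme)
    (hA : FEt.prop eA) (x : X) (F : FEt.Cat (Spec (X.presheaf.stalk x)))
    (θ : pullback (F.hom ≫ X.fromSpecStalk x) O.ι ≅ pullback (eA ≫ O.ι) (X.fromSpecStalk x))
    (hθ : θ.hom ≫ pullback.snd _ _ = pullback.fst _ _ ≫ F.hom) :
    ∃ (O' : X.Opens) (hle : O ≤ O') (G : Scheme.{u}) (γ : G ⟶ O'.toScheme) (a : A ⟶ G),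
      x ∈ O' ∧ FEt.prop γ ∧ IsPullback a eA γ (X.homOfLE hle) := by
  obtain ⟨V, d, hd, B, eB, hB, e, hxd, he⟩ := exists_nhd x O eA hA F θ hθ
  haveI := hd
  obtain ⟨G, γ, a, l, hγ, hl, hpb⟩ := PureExtend.exists_glue O.ι d eA eB hA hB e he
  refine ⟨_, le_sup_left.trans' (Scheme.Opens.opensRange_ι O).ge, G, γ, a, Or.inr hxd, hγ, ?_⟩
  convert hpb
  rw [← cancel_mono (Scheme.Opens.ι _), Scheme.homOfLE_ι, hl]


set_option maxHeartbeats 400000 in
/-- Extension over the local ring from purity. -/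
theorem theta_of_purity (O : X.Opens) {A : Scheme.{u}} (eA : A ⟶ O.toScheme)
    (hA : FEt.prop eA) (x : X) (hx : x ∉ O) (hgen : ∀ y : X, y ⤳ x → y ≠ x → y ∈ O)
    (hp : FEt.PurityHolds (X.presheaf.stalk x)) :
    ∃ (F : FEt.Cat (Spec (X.presheaf.stalk x)))
      (θ : pullback (F.hom ≫ X.fromSpecStalk x) O.ι ≅ pullback (eA ≫ O.ι) (X.fromSpecStalk x)),
      θ.hom ≫ pullback.snd _ _ = pullback.fst _ _ ≫ F.hom := by
  let s := X.fromSpecStalk x
  let ι := (FEt.puncturedSpec (X.presheaf.stalk x)).ι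
  have hpre : s ⁻¹' (O : Set X) = ({IsLocalRing.closedPoint (X.presheaf.stalk x)}ᶜ : Set _) := by
    ext y
    constructor
    · intro hy (h : y = _)
      apply hx
      rw [← Scheme.fromSpecStalk_closedPoint (x := x), ← h]
      exact hy
    · intro hy
      refine hgen _ (Set.ext_iff.1 Scheme.range_fromSpecStalk _ |>.1 ⟨y, rfl⟩) fun h => hy ?_
      exact s.isEmbedding.injective (h.trans Scheme.fromSpecStalk_closedPoint.symm)
  have hsub : Set.range (ι ≫ s) ⊆ Set.range O.ι := by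
    rintro _ ⟨y, rfl⟩
    rw [Scheme.Opens.range_ι]
    exact hpre.ge y.2
  let sO := IsOpenImmersion.lift O.ι (ι ≫ s) hsub
  have hsO : sO ≫ O.ι = ι ≫ s := IsOpenImmersion.lift_fac _ _ _
  have sq : IsPullback ι sO s O.ι := by
    refine (IsOpenImmersion.isPullback sO ι O.ι s hsO.symm ?_).flip
    rw [Scheme.Opens.opensRange_ι]
    ext y
    show s y ∈ O ↔ y ∈ Set.range ι
    rw [Scheme.Opens.range_ι]
    exact Set.ext_iff.1 hpre y
  haveI : (FEt.restrict ι).EssSurj := hp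
  let E := (FEt.restrict sO).obj (MorphismProperty.Over.mk ⊤ eA hA)
  let F := (FEt.restrict ι).objPreimage E
  let ε := (FEt.restrict ι).objObjPreimageIso E
  let η : pullback F.hom ι ≅ pullback eA sO :=
    { hom := ε.hom.left
      inv := ε.inv.left
      hom_inv_id := congrArg (·.left) ε.hom_inv_id
      inv_hom_id := congrArg (·.left) ε.inv_hom_id }
  have hη : η.hom ≫ pullback.snd eA sO = pullback.snd F.hom ι := MorphismProperty.Over.w ε.hom
  have p₁ : IsPullback (pullback.fst F.hom ι) (pullback.snd F.hom ι ≫ sO) (F.hom ≫ s) O.ι :=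
    (IsPullback.of_hasPullback F.hom ι).paste_vert sq
  have p₂ : IsPullback (pullback.fst eA sO) (pullback.snd eA sO ≫ ι) (eA ≫ O.ι) s :=
    (IsPullback.of_hasPullback eA sO).paste_vert sq.flip
  let θ : pullback (F.hom ≫ s) O.ι ≅ pullback (eA ≫ O.ι) s :=
    (IsPullback.of_hasPullback _ _).isoIsPullback _ _ p₁ ≪≫ η ≪≫
      p₂.isoIsPullback _ _ (IsPullback.of_hasPullback _ _)
  have hθ : θ.hom ≫ pullback.snd _ _ = pullback.fst _ _ ≫ F.hom := by
    simp only [θ, Iso.trans_hom, Category.assoc, IsPullback.isoIsPullback_hom_snd]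
    erw [IsPullback.isoIsPullback_hom_snd]
    erw [reassoc_of% hη, ← pullback.condition, IsPullback.isoIsPullback_hom_fst_assoc]
  exact ⟨F, θ, hθ⟩

/-- Comparison of an extension over `O` with the cover over `U`, along a map seeing `O` only inside `U`. -/
theorem theta_aux {U O : X.Opens} (hle : U ≤ O) {Y A : Scheme.{u}} (h : Y ⟶ U.toScheme) (eA : A ⟶ O.toScheme)
    (q : Y ⟶ A) (hq : IsPullback q h eA (X.homOfLE hle)) {S : Scheme.{u}} (s : S ⟶ X)
    (hs : ∀ y : S, s y ∈ O → s y ∈ U) {F : Scheme.{u}} (f : F ⟶ S)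
    (η : pullback f (pullback.snd U.ι s) ≅ pullback h (pullback.fst U.ι s))
    (hη : η.hom ≫ pullback.snd _ _ = pullback.snd _ _) :
    ∃ θ : pullback (f ≫ s) O.ι ≅ pullback (eA ≫ O.ι) s, θ.hom ≫ pullback.snd _ _ = pullback.fst _ _ ≫ f := by
  have hfac : X.homOfLE hle ≫ O.ι = U.ι := X.homOfLE_ι hle
  have sqA : IsPullback q h (eA ≫ O.ι) U.ι := by
    have := hq.paste_vert (IsPullback.of_vert_isIso_mono (fst := X.homOfLE hle) (snd := 𝟙 U.toScheme)
      (f := O.ι) (g := U.ι) ⟨by simp⟩)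
    simpa using this
  have p₁ : IsPullback (pullback.fst f (pullback.snd U.ι s))
      (pullback.snd f (pullback.snd U.ι s) ≫ pullback.fst U.ι s) (f ≫ s) U.ι :=
    (IsPullback.of_hasPullback f _).paste_vert (IsPullback.of_hasPullback U.ι s).flip
  have p₂ : IsPullback (pullback.fst h (pullback.fst U.ι s))
      (pullback.snd h (pullback.fst U.ι s) ≫ pullback.snd U.ι s) (h ≫ U.ι) s :=
    (IsPullback.of_hasPullback h _).paste_vert (IsPullback.of_hasPullback U.ι s)
  have hrange : Set.range (pullback.fst (f ≫ s) O.ι) = Set.range (pullback.fst (f ≫ s) U.ι) := by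
    rw [IsOpenImmersion.range_pullbackFst, IsOpenImmersion.range_pullbackFst, Scheme.Opens.opensRange_ι,
      Scheme.Opens.opensRange_ι]
    ext y
    exact ⟨fun hy => hs (f y) hy, fun hy => hle hy⟩
  let l : pullback (f ≫ s) O.ι ≅ pullback (f ≫ s) U.ι := IsOpenImmersion.isoOfRangeEq _ _ hrange
  have hl : l.hom ≫ pullback.fst (f ≫ s) U.ι = pullback.fst (f ≫ s) O.ι := IsOpenImmersion.isoOfRangeEq_hom_fac _ _ _
  let r : pullback (h ≫ U.ι) s ⟶ pullback (eA ≫ O.ι) s :=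
    pullback.lift (pullback.fst _ _ ≫ q) (pullback.snd _ _) (by
      rw [Category.assoc, sqA.w, pullback.condition])
  have sqr : IsPullback r (pullback.fst (h ≫ U.ι) s) (pullback.fst (eA ≫ O.ι) s) q := by
    refine IsPullback.of_right (h₁₂ := pullback.snd _ _) (h₂₂ := eA ≫ O.ι) (v₁₃ := s) ?_
      (pullback.lift_fst _ _ _) (IsPullback.of_hasPullback (eA ≫ O.ι) s).flip
    rw [pullback.lift_snd, sqA.w]
    exact (IsPullback.of_hasPullback (h ≫ U.ι) s).flip
  haveI : IsOpenImmersion q := MorphismProperty.of_isPullback hq.flip inferInstance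
  haveI : IsOpenImmersion r := MorphismProperty.of_isPullback sqr.flip inferInstance
  haveI : Surjective r := ⟨fun p => by
    set a := pullback.fst (eA ≫ O.ι) s p
    have ha : O.ι (eA a) = s (pullback.snd (eA ≫ O.ι) s p) := by
      rw [← Scheme.Hom.comp_apply, ← Scheme.Hom.comp_apply, ← Scheme.Hom.comp_apply, pullback.condition]
    have haU : O.ι (eA a) ∈ U := ha ▸ hs _ (ha ▸ (Scheme.Opens.range_ι O ▸ ⟨eA a, rfl⟩ : O.ι (eA a) ∈ (O : Set X)))
    obtain ⟨w, hw, -⟩ := Scheme.exists_preimage_of_isPullback hq a ⟨O.ι (eA a), haU⟩ (by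
      apply O.ι.injective
      rw [← Scheme.Hom.comp_apply (X.homOfLE hle) O.ι, hfac]
      rfl)
    obtain ⟨z, hz, -⟩ := Scheme.exists_preimage_of_isPullback sqr p w hw.symm
    exact ⟨z, hz⟩⟩
  haveI : IsIso r := (isIso_iff_isOpenImmersion_and_surjective r).2 ⟨inferInstance, inferInstance⟩
  refine ⟨l ≪≫ (IsPullback.of_hasPullback (f ≫ s) U.ι).isoIsPullback _ _ p₁ ≪≫ η ≪≫
      p₂.isoIsPullback _ _ (IsPullback.of_hasPullback (h ≫ U.ι) s) ≪≫ asIso r, ?_⟩
  have e1 : r ≫ pullback.snd (eA ≫ O.ι) s = pullback.snd (h ≫ U.ι) s := pullback.lift_snd _ _ _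
  have e2 : (p₂.isoIsPullback _ _ (IsPullback.of_hasPullback (h ≫ U.ι) s)).hom ≫ pullback.snd (h ≫ U.ι) s =
      pullback.snd h (pullback.fst U.ι s) ≫ pullback.snd U.ι s := IsPullback.isoIsPullback_hom_snd _ _ _ _
  have e5 : ((IsPullback.of_hasPullback (f ≫ s) U.ι).isoIsPullback _ _ p₁).hom ≫ pullback.fst f (pullback.snd U.ι s) =
      pullback.fst (f ≫ s) U.ι := IsPullback.isoIsPullback_hom_fst _ _ _ _
  rw [Iso.trans_hom, Iso.trans_hom, Iso.trans_hom, Iso.trans_hom, Category.assoc, Category.assoc, Category.assoc,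
    Category.assoc, asIso_hom, e1, e2, reassoc_of% hη, ← pullback.condition, reassoc_of% e5, reassoc_of% hl]

/-- Extension over the local ring from an extension of the cover of `U`. -/
theorem theta_of_ext {U O : X.Opens} (hle : U ≤ O) {Y A : Scheme.{u}} (h : Y ⟶ U.toScheme) (eA : A ⟶ O.toScheme)
    (q : Y ⟶ A) (hq : IsPullback q h eA (X.homOfLE hle)) (x : X) (hOU : ∀ y : X, y ⤳ x → y ∈ O → y ∈ U)
    {F : Scheme.{u}} (f : F ⟶ Spec (X.presheaf.stalk x))
    (η : pullback f (pullback.snd U.ι (X.fromSpecStalk x)) ≅ pullback h (pullback.fst U.ι (X.fromSpecStalk x)))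
    (hη : η.hom ≫ pullback.snd _ _ = pullback.snd _ _) :
    ∃ θ : pullback (f ≫ X.fromSpecStalk x) O.ι ≅ pullback (eA ≫ O.ι) (X.fromSpecStalk x),
      θ.hom ≫ pullback.snd _ _ = pullback.fst _ _ ≫ f :=
  theta_aux hle h eA q hq (X.fromSpecStalk x)
    (fun y hy => hOU _ (Scheme.range_fromSpecStalk.le ⟨y, rfl⟩) hy) f η hη

/-- Extension of a cover of `U` over `U ⊔ V` for an affine open `V`. -/
theorem exists_extension_affine [IsLocallyNoetherian X] (U : X.Opens) (hU : Dense (U : Set X))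
    {Y : Scheme.{u}} (h : Y ⟶ U.toScheme) (hh : FEt.prop h)
    (hreg : ∀ x : X, x ∉ U → IsRegularLocalRing (X.presheaf.stalk x))
    (hunr : ∀ ξ : X, ξ ∉ U → ringKrullDim (X.presheaf.stalk ξ) = 1 →
      ∃ (F : FEt.Cat (Spec (X.presheaf.stalk ξ)))
        (η : pullback F.hom (pullback.snd U.ι (X.fromSpecStalk ξ)) ≅ pullback h (pullback.fst U.ι (X.fromSpecStalk ξ))),
        η.hom ≫ pullback.snd _ _ = pullback.snd _ _)
    (V : X.Opens) (hV : IsAffineOpen V) :
    ∃ (O : X.Opens) (hle : U ≤ O) (_ : V ≤ O) (A : Scheme.{u}) (eA : A ⟶ O.toScheme) (q : Y ⟶ A),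
      FEt.prop eA ∧ IsPullback q h eA (X.homOfLE hle) := by
  haveI : CompactSpace V.toScheme := isCompact_iff_compactSpace.1 hV.isCompact
  haveI : IsNoetherian V.toScheme := {}
  let P : X.Opens → Prop := fun O => ∃ (hle : U ≤ O) (A : Scheme.{u}) (eA : A ⟶ O.toScheme) (q : Y ⟶ A),
    FEt.prop eA ∧ IsPullback q h eA (X.homOfLE hle) ∧ O ≤ U ⊔ V
  have h0 : P U := ⟨le_rfl, Y, h, 𝟙 _, hh, by rw [Scheme.homOfLE_rfl]; exact IsPullback.of_id_fst, le_sup_left⟩
  obtain ⟨O', hO', hmax⟩ := (wellFounded_gt (α := V.toScheme.Opens)).has_min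
    {W | ∃ O, P O ∧ V.ι ⁻¹ᵁ O = W} ⟨_, U, h0, rfl⟩
  obtain ⟨O, hPO, rfl⟩ := hO'
  obtain ⟨hle, A, eA, q, hA, hq, hOV⟩ := hPO
  suffices hVO : V ≤ O from ⟨O, hle, hVO, A, eA, q, hA, hq⟩
  by_contra hne
  obtain ⟨x', hx', hgen'⟩ := PureExtend.exists_maximal_point ((V.ι ⁻¹ᵁ O : Set V.toScheme)ᶜ)
    (V.ι ⁻¹ᵁ O).2.isClosed_compl (by
      obtain ⟨v, hv, hvO⟩ := Set.not_subset.1 hne
      exact ⟨⟨v, hv⟩, hvO⟩)
  set x := V.ι x'
  have hxO : x ∉ O := hx'
  have hxV : x ∈ V := x'.2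
  have hxU : x ∉ U := fun hu => hxO (hle hu)
  have hgen : ∀ y : X, y ⤳ x → y ≠ x → y ∈ O := by
    intro y hy hyx
    have hyV : y ∈ V := hy.mem_open V.2 hxV
    by_contra hyO
    refine hgen' ⟨y, hyV⟩ (V.ι.isOpenEmbedding.isInducing.specializes_iff.1 hy) ?_ hyO
    exact fun e => hyx (congrArg V.ι e)
  haveI := hreg x hxU
  haveI := RegLoc.isDomain (X.presheaf.stalk x)
  obtain ⟨d, hd⟩ := SerreReg.exists_dim (X.presheaf.stalk x)
  have hθ : ∃ (F : FEt.Cat (Spec (X.presheaf.stalk x)))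
      (θ : pullback (F.hom ≫ X.fromSpecStalk x) O.ι ≅ pullback (eA ≫ O.ι) (X.fromSpecStalk x)),
      θ.hom ≫ pullback.snd _ _ = pullback.fst _ _ ≫ F.hom := by
    rcases Nat.lt_or_ge d 2 with hd2 | hd2
    · have hd1 : d = 1 := by
        by_contra hne1
        have hd0 : d = 0 := by omega
        refine not_isField_stalk U hU x hxU ?_
        haveI : Ring.KrullDimLE 0 (X.presheaf.stalk x) := Ring.krullDimLE_iff.2 (by rw [hd, hd0])
        exact Ring.KrullDimLE.isField_of_isDomain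
      subst hd1
      have hOU : ∀ y : X, y ⤳ x → y ∈ O → y ∈ U := by
        intro y hy hyO
        refine mem_of_no_generization U hU y fun z hz => ?_
        obtain ⟨w, rfl⟩ := (Set.ext_iff.1 Scheme.range_fromSpecStalk y).2 hy
        obtain ⟨w', rfl⟩ := (Set.ext_iff.1 Scheme.range_fromSpecStalk z).2 (hz.trans hy)
        have hww : w' ⤳ w := (X.fromSpecStalk x).isEmbedding.isInducing.specializes_iff.1 hz
        haveI : Ring.KrullDimLE 1 (X.presheaf.stalk x) := Ring.krullDimLE_iff.2 (by rw [hd])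
        let p' : PrimeSpectrum (X.presheaf.stalk x) := w'
        let p : PrimeSpectrum (X.presheaf.stalk x) := w
        have hle' : p'.asIdeal ≤ p.asIdeal := (PrimeSpectrum.le_iff_specializes p' p).2 hww
        have hp : p.asIdeal = ⊥ := by
          by_contra hp0
          haveI := p.2
          have hm := IsLocalRing.eq_maximalIdeal ((Ring.krullDimLE_one_iff_of_noZeroDivisors.1 ‹_›) _ hp0 p.2)
          exact hxO (by
            have hw : w = IsLocalRing.closedPoint (X.presheaf.stalk x) := PrimeSpectrum.ext hm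
            rwa [hw, Scheme.fromSpecStalk_closedPoint] at hyO)
        exact congrArg (X.fromSpecStalk x) (PrimeSpectrum.ext ((le_bot_iff.1 (hle'.trans hp.le)).trans hp.symm) : p' = p)
      obtain ⟨F, η, hη⟩ := hunr x hxU (by rw [hd]; rfl)
      obtain ⟨θ, hθ⟩ := theta_of_ext hle h eA q hq x hOU F.hom η hη
      exact ⟨F, θ, hθ⟩
    · exact theta_of_purity O eA hA x hxO hgen
        (Groth.Agent.S0247.result _ (by rw [hd]; exact_mod_cast hd2))
  obtain ⟨F, θ, hθ⟩ := hθ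
  obtain ⟨O₁, hle₁, G, γ, a, hxO₁, hγ, hpb⟩ := exists_bigger O eA hA x F θ hθ
  let O₂ := O₁ ⊓ (U ⊔ V)
  have hle₂ : O ≤ O₂ := le_inf hle₁ hOV
  let a₂ : A ⟶ pullback γ (X.homOfLE (inf_le_left : O₂ ≤ O₁)) := pullback.lift a (eA ≫ X.homOfLE hle₂) (by
    rw [Category.assoc, X.homOfLE_homOfLE]; exact hpb.w)
  have hpb₂ : IsPullback a₂ eA (pullback.snd γ (X.homOfLE (inf_le_left : O₂ ≤ O₁))) (X.homOfLE hle₂) := by
    refine IsPullback.of_right (h₁₂ := pullback.fst _ _) (h₂₂ := X.homOfLE (inf_le_left : O₂ ≤ O₁)) (v₁₃ := γ) ?_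
      (pullback.lift_snd _ _ _) (IsPullback.of_hasPullback γ (X.homOfLE (inf_le_left : O₂ ≤ O₁)))
    rw [pullback.lift_fst, X.homOfLE_homOfLE]
    exact hpb
  haveI : IsFinite γ := hγ.1
  haveI : Etale γ := hγ.2
  have hP₂ : P O₂ := ⟨hle.trans hle₂, _, pullback.snd γ (X.homOfLE (inf_le_left : O₂ ≤ O₁)), q ≫ a₂,
    ⟨inferInstance, inferInstance⟩, by rw [← X.homOfLE_homOfLE hle hle₂]; exact hq.paste_horiz hpb₂, inf_le_right⟩
  refine hmax (V.ι ⁻¹ᵁ O₂) ⟨O₂, hP₂, rfl⟩ (lt_of_le_of_ne (fun y hy => hle₂ hy) fun e => hxO ?_)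
  exact (e ▸ (⟨hxO₁, Or.inr hxV⟩ : x' ∈ V.ι ⁻¹ᵁ O₂) : x' ∈ V.ι ⁻¹ᵁ O)

end Groth.Agent.CodimOneExt
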