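import Groth.Agent.CodimOneExt.Ext
import Mathlib.AlgebraicGeometry.RelativeGluing
import Mathlib.AlgebraicGeometry.Sites.SmallAffineZariski

/-!
# Glueing the extensions over affine opens
-/

set_option autoImplicit false
set_option backward.isDefEq.respectTransparency false

universe u

open CategoryTheory CategoryTheory.Limits AlgebraicGeometry TopologicalSpace

namespace Groth.Agent.CodimOneExt

variable {X : Scheme.{u}}

set_option maxHeartbeats 1000000 in
/-- The extension of the cover to all of `X`. -/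
theorem exists_extension [IsLocallyNoetherian X] (U : X.Opens) (hU : Dense (U : Set X))
    {Y : Scheme.{u}} (h : Y ⟶ U.toScheme) (hh : FEt.prop h)
    (hreg : ∀ x : X, x ∉ U → IsRegularLocalRing (X.presheaf.stalk x))
    (hunr : ∀ ξ : X, ξ ∉ U → ringKrullDim (X.presheaf.stalk ξ) = 1 →
      ∃ (F : FEt.Cat (Spec (X.presheaf.stalk ξ)))
        (η : pullback F.hom (pullback.snd U.ι (X.fromSpecStalk ξ)) ≅ pullback h (pullback.fst U.ι (X.fromSpecStalk ξ))),
        η.hom ≫ pullback.snd _ _ = pullback.snd _ _) :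
    ∃ (Z : Scheme.{u}) (g : Z ⟶ X) (q : Y ⟶ Z), FEt.prop g ∧ IsPullback q h g U.ι := by
  classical
  have D : ∀ V : X.AffineZariskiSite, Ext U h V.1 := fun V =>
    (exists_ext hU hh hreg hunr V.1 V.2).some
  have hle : ∀ {V W : X.AffineZariskiSite} (_ : V ⟶ W), V.1 ≤ W.1 := fun f =>
    ((Scheme.AffineZariskiSite.toOpensFunctor X).map f).le
  choose m hm hmu using fun (V W : X.AffineZariskiSite) (f : V ⟶ W) =>
    (D V).existsUnique_trans hU hreg (D W) (hle f)
  let F : X.AffineZariskiSite ⥤ Scheme.{u} :=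
    { obj := fun V => (D V).G
      map := fun {V W} f => m V W f
      map_id := fun V => ((D V).existsUnique_trans hU hreg (D V) (hle (𝟙 V))).unique (hm V V (𝟙 V))
        ⟨by rw [Scheme.homOfLE_rfl, Category.id_comp, Category.comp_id], by
          rw [tr_self, Category.id_comp, Category.comp_id]⟩
      map_comp := fun {V W Z} f g => ((D V).existsUnique_trans hU hreg (D Z) (hle (f ≫ g))).unique
        (hm V Z (f ≫ g)) ⟨by
          rw [Category.assoc, (hm W Z g).1, reassoc_of% (hm V W f).1, X.homOfLE_homOfLE], by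
          rw [reassoc_of% (hm V W f).2, (hm W Z g).2, ← Category.assoc, tr_tr]⟩ }
  let α : F ⟶ (Scheme.AffineZariskiSite.directedCover X).functorOfLocallyDirected :=
    { app := fun V => (D V).γ
      naturality := fun {V W} f => (hm V W f).1 }
  let d : (Scheme.AffineZariskiSite.directedCover X).RelativeGluingData :=
    { functor := F
      natTrans := α
      equifibered := fun {V W} f =>
        (D V).isPullback_trans hU hreg (D W) (hle f) (m V W f) (hm V W f).1 (hm V W f).2 }
  haveI : (d.functor ⋙ Scheme.forget).IsLocallyDirected :=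
    Scheme.Cover.RelativeGluingData.instIsLocallyDirectedI₀CompFunctorForgetOfIsThin ..
  haveI : ∀ {V W : X.AffineZariskiSite} (f : V ⟶ W), IsOpenImmersion (d.functor.map f) := fun {V W} f =>
    MorphismProperty.of_isPullback
      ((D V).isPullback_trans hU hreg (D W) (hle f) (m V W f) (hm V W f).1 (hm V W f).2).flip
      (inferInstanceAs (IsOpenImmersion (X.homOfLE (hle f))))
  have hbase : ∀ V : X.AffineZariskiSite, IsPullback (colimit.ι d.functor V) (D V).γ d.toBase V.1.ι :=
    fun V => (d.isPullback_natTrans_ι_toBase V).flip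
  let 𝒱 : Y.OpenCover := (Scheme.AffineZariskiSite.directedCover X).pullback₁ (h ≫ U.ι)
  have hcompat : ∀ {V W : X.AffineZariskiSite} (f : V ⟶ W),
      tr (h := h) (hle f) ≫ (D W).q ≫ colimit.ι d.functor W = (D V).q ≫ colimit.ι d.functor V := by
    intro V W f
    rw [← colimit.w d.functor f]
    exact ((reassoc_of% (hm V W f).2) _).symm
  let g : Y ⟶ d.glued := Scheme.OpenCover.glueMorphismsOfLocallyDirected 𝒱
    (fun V : X.AffineZariskiSite => (D V).q ≫ colimit.ι d.functor V) (fun {V W} f => hcompat f)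
  have hg : ∀ V : X.AffineZariskiSite, pullback.fst (h ≫ U.ι) V.1.ι ≫ g = (D V).q ≫ colimit.ι d.functor V :=
    fun V => Scheme.OpenCover.map_glueMorphismsOfLocallyDirected 𝒱 _ _ V
  have hgw : g ≫ d.toBase = h ≫ U.ι := by
    refine 𝒱.hom_ext _ _ fun V => ?_
    show pullback.fst (h ≫ U.ι) V.1.ι ≫ g ≫ d.toBase = pullback.fst (h ≫ U.ι) V.1.ι ≫ h ≫ U.ι
    rw [reassoc_of% hg V, (hbase V).w, reassoc_of% (D V).hq, pullback.condition]
  have hsq : ∀ V : X.AffineZariskiSite,
      IsPullback (pullback.fst (h ≫ U.ι) V.1.ι) (D V).q g (colimit.ι d.functor V) := by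
    intro V
    refine IsPullback.of_bot ?_ (hg V) (hbase V)
    rw [(D V).hq, hgw]
    exact IsPullback.of_hasPullback _ _
  haveI : IsOpenImmersion g := by
    refine IsZariskiLocalAtTarget.of_openCover (P := @IsOpenImmersion) (f := g) d.cover fun V => ?_
    let e := (IsPullback.of_hasPullback g (colimit.ι d.functor V)).isoIsPullback _ _ (hsq V)
    have he : e.hom ≫ (D V).q = pullback.snd g (colimit.ι d.functor V) :=
      IsPullback.isoIsPullback_hom_snd Y (d.functor.obj V) (IsPullback.of_hasPullback g (colimit.ι d.functor V)) (hsq V)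
    haveI : IsOpenImmersion (D V).q := MorphismProperty.of_isPullback (D V).sq.flip inferInstance
    show IsOpenImmersion (pullback.snd g (colimit.ι d.functor V))
    rw [← he]
    infer_instance
  refine ⟨d.glued, d.toBase, g, ⟨?_, ?_⟩, ?_⟩
  · refine IsZariskiLocalAtTarget.of_openCover (P := @IsFinite) (Scheme.AffineZariskiSite.directedCover X) fun V => ?_
    haveI := (D V).prop.1
    exact MorphismProperty.of_isPullback (P := @IsFinite) (show IsPullback
      ((IsPullback.of_hasPullback d.toBase V.1.ι).isoIsPullback _ _ (hbase V)).hom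
      (pullback.snd d.toBase V.1.ι) (D V).γ (𝟙 _) from
      IsPullback.of_horiz_isIso ⟨by rw [Category.comp_id]; exact IsPullback.isoIsPullback_hom_snd _ _ _ _⟩) (D V).prop.1
  · refine IsZariskiLocalAtTarget.of_openCover (P := @Etale) (Scheme.AffineZariskiSite.directedCover X) fun V => ?_
    exact MorphismProperty.of_isPullback (P := @Etale) (show IsPullback
      ((IsPullback.of_hasPullback d.toBase V.1.ι).isoIsPullback _ _ (hbase V)).hom
      (pullback.snd d.toBase V.1.ι) (D V).γ (𝟙 _) from
      IsPullback.of_horiz_isIso ⟨by rw [Category.comp_id]; exact IsPullback.isoIsPullback_hom_snd _ _ _ _⟩) (D V).prop.2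
  · refine (IsOpenImmersion.isPullback h g U.ι d.toBase hgw ?_).flip
    ext z
    show d.toBase z ∈ U.ι.opensRange ↔ z ∈ Set.range g
    rw [Scheme.Opens.opensRange_ι]
    constructor
    · intro hz
      obtain ⟨V, w, rfl⟩ := Scheme.IsLocallyDirected.ι_jointly_surjective d.functor z
      have hwU : ((D V).γ ≫ V.1.ι) w ∈ U := by
        rw [← (hbase V).w]
        exact hz
      obtain ⟨p, hp, -⟩ := Scheme.exists_preimage_of_isPullback (D V).sq w ⟨_, hwU⟩ rfl
      refine ⟨pullback.fst (h ≫ U.ι) V.1.ι p, ?_⟩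
      rw [← Scheme.Hom.comp_apply, hg V, Scheme.Hom.comp_apply, hp]
    · rintro ⟨y, rfl⟩
      rw [← Scheme.Hom.comp_apply, hgw, Scheme.Hom.comp_apply]
      exact (h y).2

end Groth.Agent.CodimOneExt
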