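import Groth.Agent.PureExtend.Step

/-!
# Spreading out an extension over a local ring, locally Noetherian case
-/

set_option autoImplicit false
set_option backward.isDefEq.respectTransparency false

universe u

open CategoryTheory CategoryTheory.Limits AlgebraicGeometry TopologicalSpace

namespace Groth.Agent.CodimOneExt

variable {X : Scheme.{u}}

set_option maxHeartbeats 1000000 in
/-- Spreading an extension over `Spec O_x` to an open neighbourhood of `x`. -/
theorem exists_nhd [IsLocallyNoetherian X] (x : X) (O : X.Opens) {A : Scheme.{u}} (eA : A ⟶ O.toScheme)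
    (hA : FEt.prop eA) (F : FEt.Cat (Spec (X.presheaf.stalk x)))
    (θ : pullback (F.hom ≫ X.fromSpecStalk x) O.ι ≅ pullback (eA ≫ O.ι) (X.fromSpecStalk x))
    (hθ : θ.hom ≫ pullback.snd _ _ = pullback.fst _ _ ≫ F.hom) :
    ∃ (V : Scheme.{u}) (d : V ⟶ X) (_ : IsOpenImmersion d) (B : Scheme.{u}) (eB : B ⟶ V)
      (_ : FEt.prop eB) (e : pullback (eB ≫ d) O.ι ≅ pullback (eA ≫ O.ι) d),
      x ∈ d.opensRange ∧
        e.hom ≫ pullback.fst (eA ≫ O.ι) d ≫ eA ≫ O.ι = pullback.fst (eB ≫ d) O.ι ≫ eB ≫ d := by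
  obtain ⟨V₀, hV, hxV, -⟩ := exists_isAffineOpen_mem_and_subset (show x ∈ (⊤ : X.Opens) from trivial)
  letI := X.presheaf.algebra_section_stalk (⟨x, hxV⟩ : V₀)
  let p : Ideal Γ(X, V₀) := (hV.primeIdealOf ⟨x, hxV⟩).asIdeal
  haveI : p.IsPrime := (hV.primeIdealOf ⟨x, hxV⟩).2
  haveI : IsLocalization.AtPrime (X.presheaf.stalk x) p := hV.isLocalization_stalk ⟨x, hxV⟩
  let N := p.primeCompl
  let ρ : CommRingCat.of (Localization N) ≅ X.presheaf.stalk x :=
    (IsLocalization.algEquiv N (Localization N) (X.presheaf.stalk x)).toRingEquiv.toCommRingCatIso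
  haveI : IsIso (Spec.map ρ.hom) := inferInstance
  let D := AmpleNear.locDiagram N
  let c : Cone D := (AmpleNear.locCone N).extend (Spec.map ρ.hom)
  let hc : IsLimit c := IsLimit.extendIso (Spec.map ρ.hom) (AmpleNear.locIsLimit N)
  haveI : ∀ i, CompactSpace ↥(D.obj i) := fun i => inferInstance
  haveI : ∀ i, QuasiSeparatedSpace ↥(D.obj i) := fun i => inferInstance
  let d : ∀ i, D.obj i ⟶ X := fun i =>
    Spec.map (CommRingCat.ofHom (algebraMap Γ(X, V₀) (Localization i.unop.1))) ≫ hV.fromSpec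
  have hd : ∀ {i j} (φ : j ⟶ i), D.map φ ≫ d i = d j := by
    intro i j φ
    show Spec.map (CommRingCat.ofHom (AmpleNear.locMap (leOfHom φ.unop : i.unop.1 ≤ j.unop.1))) ≫ Spec.map _ ≫ _ = Spec.map _ ≫ _
    rw [← Spec.map_comp_assoc, ← CommRingCat.ofHom_comp]
    congr 3
    exact RingHom.ext fun a => AmpleNear.locMap_algebraMap (leOfHom φ.unop : i.unop.1 ≤ j.unop.1) a
  have hdo : ∀ i, IsOpenImmersion (d i) := fun i => by
    obtain ⟨a, -, ha⟩ := AmpleNear.exists_away N i.unop
    haveI := ha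
    haveI : IsOpenImmersion (Spec.map (CommRingCat.ofHom (algebraMap Γ(X, V₀) (Localization i.unop.1)))) :=
      IsOpenImmersion.of_isLocalization a
    infer_instance
  have hdc : ∀ i, c.π.app i ≫ d i = X.fromSpecStalk x := by
    intro i
    show (Spec.map ρ.hom ≫ Spec.map (CommRingCat.ofHom (AmpleNear.locMap i.unop.2.1))) ≫ Spec.map _ ≫ _ = _
    rw [← hV.fromSpecStalk_eq_fromSpecStalk hxV, IsAffineOpen.fromSpecStalk, Category.assoc,
      ← Spec.map_comp_assoc, ← Spec.map_comp_assoc]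
    congr 2
    refine CommRingCat.hom_ext (RingHom.ext fun a => ?_)
    show (IsLocalization.algEquiv N (Localization N) (X.presheaf.stalk x))
      (AmpleNear.locMap i.unop.2.1 (algebraMap Γ(X, V₀) (Localization i.unop.1) a)) = _
    rw [AmpleNear.locMap_algebraMap, AlgEquiv.commutes]
    rfl
  obtain ⟨j, B, eB, hB, e, he⟩ :=
    PureExtend.exists_stage D c hc d hdo (fun φ => hd φ) (X.fromSpecStalk x) hdc O eA hA F θ hθ
  refine ⟨D.obj j, d j, hdo j, B, eB, hB, e, ⟨c.π.app j (IsLocalRing.closedPoint _), ?_⟩, he⟩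
  erw [← Scheme.Hom.comp_apply, hdc]
  exact Scheme.fromSpecStalk_closedPoint

end Groth.Agent.CodimOneExt
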